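import Cfsg.Agent.UnitOrders.Basic

/-!
Arithmetic of the numbers `q ^ k - (-1) ^ k` bounding element orders in unitary groups.
-/

set_option autoImplicit false

namespace CfsgLib.PGUOrders

/-- `q ^ k - (-1) ^ k`. -/
def uN (q k : ℕ) : ℕ := if Even k then q ^ k - 1 else q ^ k + 1

variable {q : ℕ}

theorem uN_cast (hq : 1 ≤ q) (k : ℕ) : (uN q k : ℤ) = (q : ℤ) ^ k - (-1) ^ k := by
  rw [uN]
  split_ifs with h
  · rw [h.neg_one_pow, Nat.cast_sub (Nat.one_le_pow _ _ hq)]
    push_cast; ring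
  · rw [(Nat.not_even_iff_odd.1 h).neg_one_pow]
    push_cast; ring

theorem succ_dvd_uN (k : ℕ) : q + 1 ∣ uN q k := by
  rw [uN]
  split_ifs with h
  · exact UnitOrders.succ_dvd_pow_sub_one q h
  · exact UnitOrders.succ_dvd_pow_add_one q (Nat.not_even_iff_odd.1 h)

theorem uN_pos (hq : 2 ≤ q) {k : ℕ} (hk : 1 ≤ k) : 0 < uN q k := by
  have := Nat.one_lt_pow (by omega : k ≠ 0) (by omega : 1 < q)
  rw [uN]; split_ifs <;> omega

theorem uN_le (k : ℕ) : uN q k ≤ q ^ k + 1 := by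
  rw [uN]; split_ifs <;> omega

theorem uN_mono (hq : 2 ≤ q) {a b : ℕ} (ha : 1 ≤ a) (hab : a ≤ b) : uN q a ≤ uN q b := by
  induction b, hab using Nat.le_induction with
  | base => exact le_rfl
  | succ b hb ih =>
    refine ih.trans ?_
    have h1 : 2 ≤ q ^ b := Nat.one_lt_pow (by omega) (by omega)
    have h2 : 2 * q ^ b ≤ q ^ (b + 1) := by
      rw [pow_succ']; exact Nat.mul_le_mul_right _ hq
    rw [uN, uN]
    split_ifs <;> omega

theorem uN_mul_le (hq : 2 ≤ q) {a b : ℕ} (ha : 1 ≤ a) (hb : 1 ≤ b) :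
    uN q a * uN q b ≤ (q + 1) * uN q (a + b - 1) := by
  obtain ⟨a, rfl⟩ : ∃ a', a = a' + 1 := ⟨a - 1, by omega⟩
  obtain ⟨b, rfl⟩ : ∃ b', b = b' + 1 := ⟨b - 1, by omega⟩
  rw [show a + 1 + (b + 1) - 1 = a + b + 1 by omega]
  zify
  rw [uN_cast (by omega), uN_cast (by omega), uN_cast (by omega)]
  have hA : (1 : ℤ) ≤ (q : ℤ) ^ a := one_le_pow₀ (by omega)
  have hB : (1 : ℤ) ≤ (q : ℤ) ^ b := one_le_pow₀ (by omega)
  have hq' : (0 : ℤ) ≤ q := by positivity
  have k1 : (0 : ℤ) ≤ q * ((q : ℤ) ^ a - 1) * ((q : ℤ) ^ b - 1) :=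
    mul_nonneg (mul_nonneg hq' (by linarith)) (by linarith)
  rcases neg_one_pow_eq_or ℤ a with e | e <;> rcases neg_one_pow_eq_or ℤ b with f | f <;>
    simp only [pow_succ, pow_add, e, f] <;>
    nlinarith [mul_nonneg hq' (sub_nonneg.2 hA), mul_nonneg hq' (sub_nonneg.2 hB)]

theorem uN_le_mul (hq : 2 ≤ q) {k : ℕ} (hk : 2 ≤ k) : uN q k ≤ (q + 1) * uN q (k - 1) := by
  have h1 := uN_le (q := q) k
  obtain ⟨j, rfl⟩ : ∃ j, k = j + 2 := ⟨k - 2, by omega⟩
  rw [show j + 2 - 1 = j + 1 by omega]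
  have h4 : q + 2 ≤ q ^ (j + 2) := by
    have := Nat.pow_le_pow_right (by omega : 1 ≤ q) (show 2 ≤ j + 2 by omega)
    nlinarith
  have h5 : q ^ (j + 1) - 1 ≤ uN q (j + 1) := by rw [uN]; split_ifs <;> omega
  have h6 : 1 ≤ q ^ (j + 1) := Nat.one_le_pow _ _ (by omega)
  rcases Nat.even_or_odd (j + 1) with he | ho
  · have hne : ¬ Even (j + 2) := by
      rw [Nat.even_add_one] at *
      exact fun h => by simp_all
    have he' : uN q (j + 2) = q ^ (j + 2) + 1 := if_neg hne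
    have : q ^ (j + 2) + 1 ≤ (q + 1) * (q ^ (j + 1) - 1) := by
      have h7 : q + 2 ≤ q ^ (j + 1) := by
        obtain ⟨l, hl⟩ := he
        have := Nat.pow_le_pow_right (by omega : 1 ≤ q) (show 2 ≤ j + 1 by omega)
        nlinarith
      zify [h6]
      rw [pow_succ' (q : ℤ) (j + 1)]
      have : ((q : ℤ) + 2) ≤ (q : ℤ) ^ (j + 1) := by exact_mod_cast h7
      nlinarith
    rw [he']
    exact this.trans (Nat.mul_le_mul_left _ h5)
  · have e1 : uN q (j + 1) = q ^ (j + 1) + 1 := if_neg (Nat.not_even_iff_odd.2 ho)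
    rw [e1]
    refine h1.trans ?_
    rw [pow_succ' q (j + 1)]
    nlinarith

theorem lcm_uN_le (hq : 2 ≤ q) {a b L : ℕ} (ha : 1 ≤ a) (hb : 1 ≤ b) (hL : q + 1 ∣ L)
    (hLb : L ≤ uN q b) : Nat.lcm (uN q a) L ≤ uN q (a + b - 1) := by
  rcases Nat.eq_zero_or_pos L with rfl | hL0
  · simp
  have hg : q + 1 ≤ Nat.gcd (uN q a) L :=
    Nat.le_of_dvd (Nat.gcd_pos_of_pos_right _ hL0) (Nat.dvd_gcd (succ_dvd_uN a) hL)
  refine Nat.le_of_mul_le_mul_left ?_ (show 0 < q + 1 by omega)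
  calc (q + 1) * Nat.lcm (uN q a) L ≤ Nat.gcd (uN q a) L * Nat.lcm (uN q a) L :=
        Nat.mul_le_mul_right _ hg
    _ = uN q a * L := Nat.gcd_mul_lcm _ _
    _ ≤ uN q a * uN q b := Nat.mul_le_mul_left _ hLb
    _ ≤ _ := uN_mul_le hq ha hb

/-- The power of `p` needed for multiplicity `e`. -/
def pP (p e : ℕ) : ℕ := p ^ Nat.clog p e

theorem pP_one (p : ℕ) : pP p 1 = 1 := by simp [pP, Nat.clog_one_right]

theorem le_pP {p : ℕ} (hp : 1 < p) (e : ℕ) : e ≤ pP p e := Nat.le_pow_clog hp e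

theorem pP_le {p e : ℕ} (hp : 1 < p) (he : 2 ≤ e) : pP p e ≤ p * (e - 1) := by
  have h0 := Nat.clog_pos hp he
  have h := Nat.pow_pred_clog_lt_self hp (by omega : 1 < e)
  rw [pP, show Nat.clog p e = (Nat.clog p e).pred + 1 by rw [Nat.pred_eq_sub_one]; omega, pow_succ']
  exact Nat.mul_le_mul_left _ (by omega)

theorem pP_le_self {p e : ℕ} (hp : 1 < p) (he : e ≤ p) : pP p e ≤ p := by
  have : Nat.clog p e ≤ 1 := Nat.clog_le_of_le_pow (by rwa [pow_one])
  calc pP p e ≤ p ^ 1 := Nat.pow_le_pow_right (by omega) this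
    _ = p := pow_one p

theorem growth {q : ℕ} : ∀ {k : ℕ}, 2 ≤ q → k + 1 ≤ q ^ k := by
  intro k hq
  exact Nat.lt_pow_self (by omega)

theorem growth_two {q : ℕ} (hq : 2 ≤ q) (j : ℕ) : 2 * (j + 4) ≤ q ^ (j + 3) := by
  have h1 : 2 ^ (j + 3) ≤ q ^ (j + 3) := Nat.pow_le_pow_left hq _
  have h2 : j + 1 ≤ 2 ^ j := Nat.lt_pow_self (by omega)
  rw [pow_add] at h1
  omega

variable {p f d e B : ℕ}

/-- `B` is bounded as the order of an element of multiplicity `e`. -/
def IsBd (p q d e B : ℕ) : Prop :=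
  (e = d ∧ B ≤ pP p e) ∨ (e < d ∧ B ≤ pP p e * uN q (d - e))

theorem bd_odd_big (hp : 1 < p) (hf : 2 ≤ f) (hq : q = p ^ f) (hd : 3 ≤ d) (hodd : Odd d)
    (he : 1 ≤ e) (hB : IsBd p q d e B) : B ≤ q ^ (d - 1) - 1 := by
  have hq2 : 2 * p ≤ q := by
    rw [hq]
    calc 2 * p ≤ p ^ 1 * p := by rw [pow_one]; exact Nat.mul_le_mul_right _ hp
      _ = p ^ 2 := by ring
      _ ≤ p ^ f := Nat.pow_le_pow_right (by omega) hf
  have hq4 : 4 ≤ q := by omega
  rcases hB with ⟨rfl, h⟩ | ⟨hed, h⟩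
  · have h1 := pP_le (e := e) hp (by omega)
    have h2 : e - 1 ≤ q ^ (e - 2) := by
      have := growth (q := q) (k := e - 2) (by omega); omega
    have h3 : 2 * (p * (e - 1)) ≤ q ^ (e - 1) := by
      rw [← mul_assoc, show e - 1 = e - 2 + 1 by omega, pow_succ']
      exact Nat.mul_le_mul hq2 (by omega)
    have h4 : 2 ≤ q ^ (e - 1) := Nat.one_lt_pow (by omega) (by omega)
    omega
  · obtain ⟨k, rfl⟩ : ∃ k, d = e + (k + 1) := ⟨d - e - 1, by omega⟩
    rw [Nat.add_sub_cancel_left] at h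
    rcases Nat.lt_or_ge e 2 with h2 | h2
    · obtain rfl : e = 1 := by omega
      rw [pP_one, one_mul, uN, if_pos (by
        rw [Nat.odd_add] at hodd; exact hodd.1 odd_one)] at h
      rwa [Nat.add_sub_cancel_left]
    have h1 := pP_le hp h2
    obtain ⟨j, rfl⟩ : ∃ j, e = j + 2 := ⟨e - 2, by omega⟩
    rw [show j + 2 - 1 = j + 1 by omega] at h1
    rw [show j + 2 + (k + 1) - 1 = j + k + 2 by omega]
    have hN := uN_le (q := q) (k + 1)
    have hk : q ≤ q ^ (k + 1) := Nat.le_self_pow (by omega) q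
    have hB2 : 2 * B ≤ q * ((j + 1) * (q ^ (k + 1) + 1)) := by
      calc 2 * B ≤ 2 * (p * (j + 1) * (q ^ (k + 1) + 1)) :=
            Nat.mul_le_mul_left _ (h.trans (Nat.mul_le_mul h1 hN))
        _ = 2 * p * ((j + 1) * (q ^ (k + 1) + 1)) := by ring
        _ ≤ _ := Nat.mul_le_mul_right _ hq2
    rcases Nat.eq_zero_or_pos j with rfl | hj
    · rw [show 0 + k + 2 = k + 1 + 1 by omega, pow_succ']
      have : q * q ^ (k + 1) ≥ 4 * 4 := Nat.mul_le_mul hq4 (by omega)
      have : q * 4 ≤ q * q ^ (k + 1) := Nat.mul_le_mul_left _ (by omega)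
      rw [zero_add, one_mul, Nat.mul_add, mul_one] at hB2
      omega
    · have h3 : 2 * (j + 1) ≤ q ^ j := by
        obtain ⟨l, rfl⟩ : ∃ l, j = l + 1 := ⟨j - 1, by omega⟩
        have := growth (q := q) (k := l) (by omega)
        rw [pow_succ]
        have : 4 * q ^ l ≤ q ^ l * q := by rw [mul_comm 4]; exact Nat.mul_le_mul_left _ hq4
        omega
      have h4 : 2 * B ≤ q ^ (j + k + 2) := by
        refine hB2.trans ?_
        rw [show j + k + 2 = j + (k + 1) + 1 by omega, pow_succ' q (j + (k + 1)), pow_add q j (k + 1)]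
        refine Nat.mul_le_mul_left _ ?_
        calc (j + 1) * (q ^ (k + 1) + 1) ≤ (j + 1) * (2 * q ^ (k + 1)) :=
              Nat.mul_le_mul_left _ (by omega)
          _ = 2 * (j + 1) * q ^ (k + 1) := by ring
          _ ≤ _ := Nat.mul_le_mul_right _ h3
      have h5 : 2 ≤ q ^ (j + k + 2) := Nat.one_lt_pow (by omega) (by omega)
      omega

theorem bd_odd_prime (hp : 1 < p) (hq : q = p) (hd : 3 ≤ d) (hodd : Odd d)
    (he : 1 ≤ e) (hB : IsBd p q d e B) : B ≤ (p ^ (d - 2) + 1) * p := by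
  subst hq
  rcases hB with ⟨rfl, h⟩ | ⟨hed, h⟩
  · have h1 := pP_le (e := e) hp (by omega)
    have h2 := growth (q := q) (k := e - 2) hp
    refine h.trans (h1.trans ?_)
    rw [mul_comm]
    exact Nat.mul_le_mul_right _ (by omega)
  · obtain ⟨k, rfl⟩ : ∃ k, d = e + (k + 1) := ⟨d - e - 1, by omega⟩
    rw [Nat.add_sub_cancel_left] at h
    have hk : 2 ≤ q ^ (k + 1) := Nat.one_lt_pow (by omega) hp
    have hN := uN_le (q := q) (k + 1)
    rcases Nat.lt_or_ge e 4 with h4 | h4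
    · interval_cases e
      · rw [pP_one, one_mul, uN, if_pos (by rw [Nat.odd_add] at hodd; exact hodd.1 odd_one)] at h
        refine h.trans ?_
        rw [show 1 + (k + 1) - 2 = k by omega, add_mul, one_mul, ← pow_succ]
        omega
      · refine h.trans ?_
        rw [show 2 + (k + 1) - 2 = k + 1 by omega, mul_comm (q ^ (k + 1) + 1)]
        exact Nat.mul_le_mul (pP_le_self hp (by omega)) hN
      · rw [show 3 + (k + 1) - 2 = k + 1 + 1 by omega]
        have hev : Even (k + 1) := by rw [Nat.odd_add] at hodd; exact hodd.1 (by decide)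
        refine h.trans ?_
        rcases Nat.lt_or_ge q 3 with hq2 | hq3
        · obtain rfl : q = 2 := by omega
          have : pP 2 3 ≤ 4 := by have := pP_le (p := 2) (e := 3) (by norm_num) (by norm_num); omega
          refine (Nat.mul_le_mul_right _ this).trans ?_
          rw [uN, if_pos hev, pow_succ _ (k + 1)]
          omega
        · rw [mul_comm (q ^ (k + 1 + 1) + 1)]
          refine Nat.mul_le_mul (pP_le_self hp (by omega)) (hN.trans ?_)
          have := Nat.pow_le_pow_right (by omega : 1 ≤ q) (show k + 1 ≤ k + 1 + 1 by omega)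
          omega
    · obtain ⟨j, rfl⟩ : ∃ j, e = j + 4 := ⟨e - 4, by omega⟩
      have h1 := pP_le (e := j + 4) hp (by omega)
      rw [show j + 4 - 1 = j + 3 by omega] at h1
      rw [show j + 4 + (k + 1) - 2 = (j + 2) + (k + 1) by omega, pow_add, mul_comm _ q]
      refine (h.trans (Nat.mul_le_mul h1 hN)).trans ?_
      rw [mul_assoc]
      refine Nat.mul_le_mul_left _ ?_
      have h3 : 3 * j + 8 ≤ 2 * q ^ (j + 2) := by
        have h5 : 2 ^ (j + 2) ≤ q ^ (j + 2) := Nat.pow_le_pow_left hp _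
        have h6 : j + 1 ≤ 2 ^ j := Nat.lt_pow_self (by omega)
        rw [pow_add] at h5
        omega
      have h7 : j + 3 ≤ q ^ (j + 2) := growth hp
      obtain ⟨x, hx⟩ := Nat.exists_eq_add_of_le h7
      rw [hx]
      nlinarith

theorem bd_even_big (hp : 1 < p) (hf : 1 ≤ f) (hq : q = p ^ f) (hq3 : 2 < q) (hd : 3 ≤ d)
    (heven : Even d) (he : 1 ≤ e) (hB : IsBd p q d e B) : B ≤ q ^ (d - 1) + 1 := by
  have hpq : p ≤ q := hq ▸ Nat.le_self_pow (by omega) p
  rcases hB with ⟨rfl, h⟩ | ⟨hed, h⟩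
  · have h1 := pP_le (e := e) hp (by omega)
    have h2 := growth (q := q) (k := e - 2) (by omega)
    refine (h.trans (h1.trans ?_)).trans (Nat.le_succ _)
    rw [show e - 1 = e - 2 + 1 by omega, pow_succ']
    exact Nat.mul_le_mul hpq (by omega)
  · obtain ⟨k, rfl⟩ : ∃ k, d = e + (k + 1) := ⟨d - e - 1, by omega⟩
    rw [Nat.add_sub_cancel_left] at h
    have hk : q ≤ q ^ (k + 1) := Nat.le_self_pow (by omega) q
    have hN := uN_le (q := q) (k + 1)
    rcases Nat.lt_or_ge e 3 with h3 | h3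
    · interval_cases e
      · rw [pP_one, one_mul] at h
        rw [Nat.add_sub_cancel_left]
        exact h.trans hN
      · rw [uN, if_pos (by rw [Nat.even_add] at heven; exact heven.1 even_two)] at h
        refine (h.trans (Nat.mul_le_mul ((pP_le_self (e := 2) hp (by omega)).trans hpq) le_rfl)).trans ?_
        rw [show 2 + (k + 1) - 1 = k + 1 + 1 by omega, pow_succ' q (k + 1), Nat.mul_sub, mul_one]
        omega
    obtain ⟨j, rfl⟩ : ∃ j, e = j + 3 := ⟨e - 3, by omega⟩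
    rw [show j + 3 + (k + 1) - 1 = (j + 1) + (k + 1) + 1 by omega, pow_succ', pow_add]
    refine le_trans ?_ (Nat.le_succ _)
    by_cases hs : j = 0 ∧ 3 ≤ p
    · obtain ⟨rfl, hp3⟩ := hs
      refine h.trans (Nat.mul_le_mul ((pP_le_self hp hp3).trans hpq) (hN.trans ?_))
      have : 3 * q ^ (k + 1) ≤ q ^ (0 + 1) * q ^ (k + 1) := by
        rw [zero_add, pow_one]; exact Nat.mul_le_mul_right _ (by omega)
      omega
    have h1 := pP_le (e := j + 3) hp (by omega)
    rw [show j + 3 - 1 = j + 2 by omega] at h1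
    have h2 : 2 * (j + 2) ≤ q ^ (j + 1) := by
      rcases Nat.eq_zero_or_pos j with rfl | hj
      · obtain rfl : p = 2 := by omega
        have : 2 ∣ q := hq ▸ dvd_pow_self 2 (by omega)
        rw [zero_add, zero_add, pow_one]
        omega
      · have hg := growth (q := q) (k := j) (by omega)
        rw [pow_succ]
        have : 3 * q ^ j ≤ q ^ j * q := by rw [mul_comm 3]; exact Nat.mul_le_mul_left _ hq3
        omega
    calc B ≤ p * (j + 2) * (q ^ (k + 1) + 1) := h.trans (Nat.mul_le_mul h1 hN)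
      _ ≤ q * (j + 2) * (2 * q ^ (k + 1)) :=
          Nat.mul_le_mul (Nat.mul_le_mul_right _ hpq) (by omega)
      _ = q * (2 * (j + 2) * q ^ (k + 1)) := by ring
      _ ≤ _ := Nat.mul_le_mul_left _ (Nat.mul_le_mul_right _ h2)

theorem bd_even_two (hd : 3 ≤ d) (heven : Even d) (he : 1 ≤ e) (hB : IsBd 2 2 d e B) :
    B ≤ 4 * (2 ^ (d - 3) + 1) := by
  have hd4 : 4 ≤ d := by obtain ⟨m, rfl⟩ := heven; omega
  rcases hB with ⟨rfl, h⟩ | ⟨hed, h⟩
  · have h1 := pP_le (p := 2) (e := e) (by norm_num) (by omega)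
    have h2 : e - 2 ≤ 2 ^ (e - 3) := by
      have := growth (q := 2) (k := e - 3) le_rfl; omega
    omega
  · obtain ⟨k, rfl⟩ : ∃ k, d = e + (k + 1) := ⟨d - e - 1, by omega⟩
    rw [Nat.add_sub_cancel_left] at h
    have hk : 2 ≤ 2 ^ (k + 1) := Nat.le_self_pow (by omega) 2
    have hN := uN_le (q := 2) (k + 1)
    refine h.trans ?_
    rcases Nat.lt_or_ge e 5 with h5 | h5
    · interval_cases e
      · rw [pP_one, one_mul]
        refine hN.trans ?_
        rw [show 1 + (k + 1) - 3 = k - 1 by omega]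
        have : 2 ^ (k + 1) = 4 * 2 ^ (k - 1) := by
          rw [show k + 1 = k - 1 + 2 by omega, pow_add]; ring
        omega
      · rw [uN, if_pos (by rw [Nat.even_add] at heven; exact heven.1 even_two),
          show 2 + (k + 1) - 3 = k by omega]
        refine (Nat.mul_le_mul_right _ (pP_le_self (p := 2) (by norm_num) le_rfl)).trans ?_
        rw [pow_succ]
        omega
      · rw [show 3 + (k + 1) - 3 = k + 1 by omega]
        have : pP 2 3 ≤ 4 := by have := pP_le (p := 2) (e := 3) (by norm_num) (by norm_num); omega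
        exact Nat.mul_le_mul this hN
      · have : pP 2 4 ≤ 4 := Nat.pow_le_pow_right (n := 2) (by norm_num)
          (Nat.clog_le_of_le_pow (by norm_num) : Nat.clog 2 4 ≤ 2)
        refine (Nat.mul_le_mul this hN).trans ?_
        rw [show 4 + (k + 1) - 3 = k + 1 + 1 by omega, pow_succ 2 (k + 1)]
        omega
    · obtain ⟨j, rfl⟩ : ∃ j, e = j + 5 := ⟨e - 5, by omega⟩
      have h1 := pP_le (p := 2) (e := j + 5) (by norm_num) (by omega)
      rw [show j + 5 - 1 = j + 4 by omega] at h1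
      rw [show j + 5 + (k + 1) - 3 = (j + 2) + (k + 1) by omega, pow_add]
      refine (Nat.mul_le_mul h1 hN).trans ?_
      have h3 : j + 4 ≤ 2 ^ (j + 2) := by
        have := growth (q := 2) (k := j) le_rfl
        rw [pow_add]
        omega
      calc 2 * (j + 4) * (2 ^ (k + 1) + 1) ≤ 2 * 2 ^ (j + 2) * (2 * 2 ^ (k + 1)) :=
            Nat.mul_le_mul (Nat.mul_le_mul_left _ h3) (by omega)
        _ = 4 * (2 ^ (j + 2) * 2 ^ (k + 1)) := by ring
        _ ≤ _ := Nat.mul_le_mul_left _ (Nat.le_succ _)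

end CfsgLib.PGUOrders
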