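import Cfsg.Agent.PGUOrders.Arith
import Cfsg.Agent.UnitHalf.Basic

/-!
An element order bound in projective unitary groups from the orbits of `x ↦ x ^ (-q)` on eigenvalues.
-/

set_option autoImplicit false

namespace CfsgLib.PGUOrders

open Polynomial Matrix
open CfsgLib.UnitOrders (uAdj)
open CfsgLib.PrimeGraphBC (rootsK exists_eigen)

section Orbit

variable {K : Type*} [Field K] {p f q : ℕ} [Fact p.Prime] [CharP K p]

/-- `x ↦ x ^ (-q)`. -/
def twist (q : ℕ) (x : K) : K := (x ^ q)⁻¹

theorem twist_injective (hqf : q = p ^ f) : Function.Injective (twist q : K → K) := by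
  intro x y h
  refine (iterateFrobenius K p f).injective ?_
  simp only [iterateFrobenius_def, ← hqf]
  exact inv_injective h

omit [Fact p.Prime] [CharP K p] in
theorem twist_iterate (a : K) : ∀ n, (twist q)^[n] a = a ^ ((-(q : ℤ)) ^ n)
  | 0 => by simp
  | n + 1 => by
    rw [Function.iterate_succ_apply', twist_iterate a n, twist, pow_succ, _root_.zpow_mul,
      _root_.zpow_neg, zpow_natCast]

omit [Fact p.Prime] [CharP K p] in
theorem pow_uN_eq_one (hq : 1 ≤ q) {a : K} (ha : a ≠ 0) {w : ℕ} (h : (twist q)^[w] a = a) :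
    a ^ uN q w = 1 := by
  rw [twist_iterate] at h
  have h1 : a ^ ((-(q : ℤ)) ^ w - 1) = 1 := by rw [zpow_sub₀ ha, h, zpow_one, div_self ha]
  have h2 : (-(q : ℤ)) ^ w - 1 = (-1) ^ w * (uN q w : ℤ) := by
    rw [uN_cast hq, mul_sub, ← mul_pow, neg_one_mul, ← mul_pow, neg_one_mul, neg_neg, one_pow]
  rw [h2] at h1
  rcases neg_one_pow_eq_or ℤ w with e | e <;> rw [e] at h1 <;> simpa using h1

variable [DecidableEq K]

theorem exists_orbit (hqf : q = p ^ f) {S : Finset K} (h0 : ∀ x ∈ S, x ≠ 0)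
    (hS : ∀ x ∈ S, twist q x ∈ S) {a : K} (ha : a ∈ S) :
    ∃ O : Finset K, O ⊆ S ∧ a ∈ O ∧ (∀ x ∈ S \ O, twist q x ∈ S \ O) ∧
      (∀ x ∈ O, x ^ uN q O.card = 1) ∧
      ∀ M, twist q (a ^ M) = a ^ M → ∀ x ∈ O, x ^ M = a ^ M := by
  classical
  have hq : 1 ≤ q := hqf ▸ Nat.one_le_pow _ _ (Fact.out : p.Prime).pos
  have hinj := twist_injective (K := K) hqf
  have hit : ∀ n, (twist q)^[n] a ∈ S := by
    intro n
    induction n with
    | zero => exact ha
    | succ n ih => rw [Function.iterate_succ_apply']; exact hS _ ih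
  obtain ⟨i, -, j, -, hne, hij⟩ := Finset.exists_ne_map_eq_of_card_lt_of_maps_to
    (show S.card < (Finset.range (S.card + 1)).card by simp) (fun n _ => hit n)
  have hper : a ∈ Function.periodicPts (twist q : K → K) := by
    rcases lt_or_gt_of_ne hne with h | h
    · refine Function.mk_mem_periodicPts (show 0 < j - i by omega) ?_
      exact (hinj.iterate i) (by
        rw [← Function.iterate_add_apply, show i + (j - i) = j by omega, hij])
    · refine Function.mk_mem_periodicPts (show 0 < i - j by omega) ?_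
      exact (hinj.iterate j) (by
        rw [← Function.iterate_add_apply, show j + (i - j) = i by omega, hij])
  set w := Function.minimalPeriod (twist q : K → K) a
  have hw : 0 < w := Function.minimalPeriod_pos_of_mem_periodicPts hper
  have hwa : (twist q)^[w] a = a := Function.iterate_minimalPeriod
  refine ⟨(Finset.range w).image fun n => (twist q)^[n] a, ?_, ?_, ?_, ?_, ?_⟩
  · intro x hx
    obtain ⟨n, -, rfl⟩ := Finset.mem_image.1 hx
    exact hit n
  · exact Finset.mem_image.2 ⟨0, Finset.mem_range.2 hw, rfl⟩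
  · intro x hx
    rw [Finset.mem_sdiff] at hx ⊢
    refine ⟨hS x hx.1, fun hmem => hx.2 ?_⟩
    obtain ⟨n, -, e⟩ := Finset.mem_image.1 hmem
    refine Finset.mem_image.2 ⟨(n + w - 1) % w, Finset.mem_range.2 (Nat.mod_lt _ hw),
      hinj ?_⟩
    rw [← e, (Function.isPeriodicPt_minimalPeriod (twist q) a).iterate_mod_apply,
      ← Function.iterate_succ_apply' (twist q), Nat.succ_eq_add_one,
      show n + w - 1 + 1 = n + w by omega, Function.iterate_add_apply, hwa]
  · intro x hx
    obtain ⟨n, -, rfl⟩ := Finset.mem_image.1 hx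
    rw [Finset.card_image_of_injOn fun u hu v hv e =>
      Function.iterate_injOn_Iio_minimalPeriod (Finset.mem_range.1 hu) (Finset.mem_range.1 hv) e,
      Finset.card_range]
    refine pow_uN_eq_one hq (h0 _ (hit n)) ?_
    rw [← Function.iterate_add_apply, add_comm, Function.iterate_add_apply, hwa]
  · intro M hM x hx
    obtain ⟨n, -, rfl⟩ := Finset.mem_image.1 hx
    clear hx
    induction n with
    | zero => rfl
    | succ n ih =>
      rw [Function.iterate_succ_apply', twist, inv_pow, ← pow_mul, mul_comm, pow_mul, ih]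
      exact hM

theorem exists_exp (hqf : q = p ^ f) (hq : 2 ≤ q) : ∀ S : Finset K, S.Nonempty → (∀ x ∈ S, x ≠ 0) →
    (∀ x ∈ S, twist q x ∈ S) →
    ∃ L, 0 < L ∧ q + 1 ∣ L ∧ L ≤ uN q S.card ∧ ∀ x ∈ S, x ^ L = 1 := by
  intro S
  induction S using Finset.strongInduction with
  | H S ih =>
    intro hne h0 hS
    obtain ⟨a, ha⟩ := hne
    obtain ⟨O, hOS, haO, hcl, hO, -⟩ := exists_orbit hqf h0 hS ha
    have hOpos : 1 ≤ O.card := Finset.card_pos.2 ⟨a, haO⟩
    rcases (S \ O).eq_empty_or_nonempty with he | hne'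
    · obtain rfl : S = O := Finset.Subset.antisymm (Finset.sdiff_eq_empty_iff_subset.1 he) hOS
      exact ⟨_, uN_pos hq hOpos, succ_dvd_uN _, le_rfl, hO⟩
    · obtain ⟨L, hL0, hLd, hLb, hL⟩ := ih (S \ O)
        (Finset.sdiff_ssubset hOS ⟨a, haO⟩) hne' (fun x hx => h0 x (Finset.mem_sdiff.1 hx).1) hcl
      have hcard : O.card + (S \ O).card = S.card := by
        rw [add_comm, Finset.card_sdiff_add_card_eq_card hOS]
      refine ⟨Nat.lcm (uN q O.card) L, Nat.lcm_pos (uN_pos hq hOpos) hL0,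
        hLd.trans (Nat.dvd_lcm_right _ _), ?_, fun x hx => ?_⟩
      · refine (lcm_uN_le hq hOpos (Finset.card_pos.2 hne') hLd hLb).trans (uN_mono hq ?_ (by omega))
        have := Finset.card_pos.2 hne'
        omega
      · by_cases hxO : x ∈ O
        · obtain ⟨c, hc⟩ := Nat.dvd_lcm_left (uN q O.card) L
          rw [hc, pow_mul, hO x hxO, one_pow]
        · obtain ⟨c, hc⟩ := Nat.dvd_lcm_right (uN q O.card) L
          rw [hc, pow_mul, hL x (Finset.mem_sdiff.2 ⟨hx, hxO⟩), one_pow]

theorem exists_scalar_exp (hqf : q = p ^ f) (hq : 2 ≤ q) {S : Finset K} (hne : S.Nonempty)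
    (h0 : ∀ x ∈ S, x ≠ 0) (hS : ∀ x ∈ S, twist q x ∈ S) :
    ∃ (M : ℕ) (c : K), 0 < M ∧ c ^ (q + 1) = 1 ∧ (∀ x ∈ S, x ^ M = c) ∧
      (M = 1 ∨ 2 ≤ S.card ∧ M ≤ uN q (S.card - 1)) := by
  obtain ⟨a, ha⟩ := hne
  obtain ⟨O, hOS, haO, hcl, hO, hconst⟩ := exists_orbit hqf h0 hS ha
  have hOpos : 1 ≤ O.card := Finset.card_pos.2 ⟨a, haO⟩
  rcases (S \ O).eq_empty_or_nonempty with he | hne'
  · obtain rfl : S = O := Finset.Subset.antisymm (Finset.sdiff_eq_empty_iff_subset.1 he) hOS
    rcases Nat.lt_or_ge S.card 2 with h1 | h1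
    · have h1' : S.card = 1 := by omega
      refine ⟨1, a, Nat.one_pos, ?_, fun x hx => ?_, Or.inl rfl⟩
      · have := hO a ha
        rwa [h1', uN, if_neg (by decide), pow_one] at this
      · rw [pow_one]; exact Finset.card_le_one.1 (by omega) x hx a ha
    · obtain ⟨M, hM⟩ := succ_dvd_uN (q := q) S.card
      have hc : (a ^ M) ^ (q + 1) = 1 := by rw [← pow_mul, mul_comm, ← hM, hO a ha]
      refine ⟨M, a ^ M, ?_, hc, hconst M ?_, Or.inr ⟨h1, ?_⟩⟩
      · have := uN_pos hq hOpos
        rcases Nat.eq_zero_or_pos M with rfl | hM0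
        · simp at hM; omega
        · exact hM0
      · rw [twist]
        exact inv_eq_of_mul_eq_one_right (by rw [← pow_succ, hc])
      · have := uN_le_mul hq h1
        rw [hM] at this
        exact Nat.le_of_mul_le_mul_left this (by omega)
  · have h0' : ∀ x ∈ S \ O, x ≠ 0 := fun x hx => h0 x (Finset.mem_sdiff.1 hx).1
    obtain ⟨L, hL0, hLd, hLb, hL⟩ := exists_exp hqf hq (S \ O) hne' h0' hcl
    have hcard : O.card + (S \ O).card = S.card := by
      rw [add_comm, Finset.card_sdiff_add_card_eq_card hOS]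
    have := Finset.card_pos.2 hne'
    refine ⟨Nat.lcm (uN q O.card) L, 1, Nat.lcm_pos (uN_pos hq hOpos) hL0, one_pow _,
      fun x hx => ?_, Or.inr ⟨by omega, ?_⟩⟩
    · by_cases hxO : x ∈ O
      · obtain ⟨c, hc⟩ := Nat.dvd_lcm_left (uN q O.card) L
        rw [hc, pow_mul, hO x hxO, one_pow]
      · obtain ⟨c, hc⟩ := Nat.dvd_lcm_right (uN q O.card) L
        rw [hc, pow_mul, hL x (Finset.mem_sdiff.2 ⟨hx, hxO⟩), one_pow]
    · rw [← hcard]
      exact lcm_uN_le hq hOpos (Finset.card_pos.2 hne') hLd hLb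

end Orbit

variable {F : Type*} [Field F] [Fintype F] {p f q d : ℕ} [Fact p.Prime] [CharP F p]

local notation "K" => AlgebraicClosure F

/-- Some bounded power of a unitary matrix is scalar. -/
theorem exists_scalar_pow {τ : F →+* F} (hτ : ∀ x, τ x = x ^ q) (hqf : q = p ^ f) (hq : 2 ≤ q)
    (hF : Fintype.card F = q ^ 2) (hd : 1 ≤ d) {G : Matrix (Fin d) (Fin d) F}
    (hG : uAdj τ G * G = 1) :
    ∃ (e B : ℕ) (c : F), 1 ≤ e ∧ 0 < B ∧ IsBd p q d e B ∧ G ^ B = c • 1 := by
  classical
  haveI : CharP K p := charP_of_injective_algebraMap (algebraMap F K).injective p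
  haveI : Nonempty (Fin d) := ⟨⟨0, hd⟩⟩
  set R := rootsK K G with hR
  set S := R.toFinset with hSdef
  have h0 : ∀ x ∈ S, x ≠ 0 := by
    intro x hx hx0
    obtain ⟨v, hv, hGv⟩ := exists_eigen K (Multiset.mem_toFinset.1 hx)
    rw [hx0, zero_smul] at hGv
    apply hv
    have h1 : (uAdj τ G).map (algebraMap F K) * G.map (algebraMap F K) = 1 := by
      rw [← Matrix.map_mul, hG, Matrix.map_one _ (map_zero _) (map_one _)]
    have := congrArg (fun M => M *ᵥ v) h1
    simp only [← Matrix.mulVec_mulVec, hGv, Matrix.mulVec_zero, Matrix.one_mulVec] at this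
    exact this.symm
  have hS : ∀ x ∈ S, twist q x ∈ S := by
    intro x hx
    have := UnitHalf.root_neg_pow hqf hτ hG (Multiset.mem_toFinset.1 hx)
    rw [_root_.zpow_neg, zpow_natCast] at this
    exact Multiset.mem_toFinset.2 this
  have hcardR : Multiset.card R = d := by
    rw [hR, CfsgLib.PrimeGraphBC.card_rootsK, Fintype.card_fin]
  have hne : S.Nonempty := by
    rw [hSdef, ← Finset.card_pos]
    by_contra hc
    have : R = 0 := Multiset.toFinset_eq_empty.1 (Finset.card_eq_zero.1 (by omega))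
    rw [this, Multiset.card_zero] at hcardR
    omega
  obtain ⟨a0, ha0, hmax⟩ := S.exists_max_image (fun x => R.count x) hne
  set e := R.count a0
  have he : 1 ≤ e := Multiset.one_le_count_iff_mem.2 (Multiset.mem_toFinset.1 ha0)
  have hW : S.card + e ≤ d + 1 := by
    have hsum := Multiset.toFinset_sum_count_eq R
    rw [hcardR, ← hSdef, ← Finset.add_sum_erase _ _ ha0] at hsum
    have : (S.erase a0).card • 1 ≤ ∑ x ∈ S.erase a0, R.count x :=
      Finset.card_nsmul_le_sum _ _ _ fun x hx =>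
        Multiset.one_le_count_iff_mem.2 (Multiset.mem_toFinset.1 (Finset.mem_of_mem_erase hx))
    rw [Finset.card_erase_of_mem ha0, smul_eq_mul, mul_one] at this
    omega
  have hed : e ≤ d := hcardR ▸ Multiset.count_le_card _ _
  obtain ⟨M, c, hM0, hc, hroot, hMb⟩ := exists_scalar_exp hqf hq hne h0 hS
  obtain ⟨μ, hμ⟩ := CfsgLib.LinearOrders.exists_algebraMap_eq (F := F) (c ^ pP p e) (by
    rw [hF, ← pow_mul, mul_comm (pP p e), pow_mul]
    congr 1
    rw [show q ^ 2 = (q - 1) * (q + 1) + 1 by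
      rw [mul_comm, ← Nat.sq_sub_sq, one_pow]
      have := Nat.one_le_pow 2 q (by omega)
      omega, pow_succ, mul_comm (q - 1), pow_mul, hc, one_pow, one_mul])
  refine ⟨e, pP p e * M, μ, he,
    Nat.mul_pos (pow_pos (Fact.out : p.Prime).pos _) hM0, ?_, ?_⟩
  · rcases Nat.lt_or_eq_of_le hed with hlt | heq
    · refine Or.inr ⟨hlt, Nat.mul_le_mul_left _ ?_⟩
      rcases hMb with rfl | ⟨h2, hMb⟩
      · exact uN_pos hq (by omega)
      · exact hMb.trans (uN_mono hq (by omega) (by omega))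
    · refine Or.inl ⟨heq, ?_⟩
      rcases hMb with rfl | ⟨h2, -⟩
      · rw [mul_one]
      · omega
  · have hsplit : (G.charpoly.map (algebraMap F K)) = (R.map fun a => X - Polynomial.C a).prod :=
      (IsAlgClosed.splits _).eq_prod_roots_of_monic ((charpoly_monic G).map _)
    have hdvd : G.charpoly.map (algebraMap F K) ∣
        (X ^ (pP p e * M) - Polynomial.C μ).map (algebraMap F K) := by
      rw [hsplit, Polynomial.map_sub, Polynomial.map_pow, Polynomial.map_X, Polynomial.map_C, hμ,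
        Finset.prod_multiset_map_count, ← hSdef, mul_comm, pow_mul, pP,
        Polynomial.C_pow, ← sub_pow_char_pow]
      refine (Finset.prod_dvd_prod_of_dvd _ _ fun x hx => pow_dvd_pow _
        ((hmax x hx).trans (le_pP (Fact.out : p.Prime).one_lt e))).trans ?_
      rw [Finset.prod_pow]
      refine pow_dvd_pow_of_dvd (Finset.prod_dvd_of_coprime
        (fun x _ y _ hxy => Polynomial.pairwise_coprime_X_sub_C Function.injective_id hxy) fun x hx => ?_) _
      rw [Polynomial.dvd_iff_isRoot, IsRoot, eval_sub, eval_pow, eval_X, eval_C, id, hroot x hx, sub_self]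
    rw [map_dvd_map _ (algebraMap F K).injective (charpoly_monic G)] at hdvd
    have := aeval_eq_zero_of_dvd_aeval_eq_zero hdvd (aeval_self_charpoly G)
    rw [map_sub, map_pow, aeval_X, aeval_C, sub_eq_zero] at this
    rw [this, Algebra.algebraMap_eq_smul_one]

end CfsgLib.PGUOrders
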