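import Cfsg.Agent.UnitOrders.Elements
import Cfsg.Agent.RootClasses.GUCenter
import Cfsg.Agent.AschbacherUnitary.Basic

/-!
Elements of large order in projective unitary groups.
-/

set_option autoImplicit false

namespace CfsgLib.PGUOrders

open Polynomial Matrix CfsgLib.UnitOrders

variable {F : Type*} [Field F] [Fintype F] {p f q n : ℕ} [Fact p.Prime] [CharP F p] {τ : F →+* F}

/-- A matrix of order `q ^ n + 1` preserving a hermitian form in odd dimension `n`. -/
theorem exists_singer (hτ : ∀ x, τ x = x ^ q) (hF : Fintype.card F = q ^ 2) (hq : q = p ^ f)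
    (hq1 : 1 < q) (hn : 1 ≤ n) (hodd : Odd n) :
    ∃ H X : Matrix (Fin n) (Fin n) F, uAdj τ H = H ∧ H.det ≠ 0 ∧ uAdj τ X * H * X = H ∧
      orderOf X = q ^ n + 1 := by
  classical
  haveI : NeZero n := ⟨by omega⟩
  let K := FiniteField.Extension F p n
  haveI : Finite K := Module.finite_of_finite F
  haveI : CharP K p := charP_of_injective_algebraMap (algebraMap F K).injective p
  have hcardK : Nat.card K = q ^ (2 * n) := by
    rw [FiniteField.natCard_extension, Nat.card_eq_fintype_card, hF, ← pow_mul]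
  let b : Module.Basis (Fin n) F K :=
    Module.finBasisOfFinrankEq F K (FiniteField.finrank_extension F p n)
  let cj : K →+* K := iterateFrobenius K p (f * n)
  have hcj : ∀ y, cj y = y ^ q ^ n := fun y => by rw [hq, ← pow_mul]; rfl
  have hcjcj : ∀ y, cj (cj y) = y := fun y => by
    haveI : Fintype K := Fintype.ofFinite K
    rw [hcj, hcj, ← pow_mul, ← pow_add, ← two_mul, ← hcardK, Nat.card_eq_fintype_card, FiniteField.pow_card]
  have hcjF : ∀ x : F, cj (algebraMap F K x) = algebraMap F K (τ x) := fun x => by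
    obtain ⟨l, rfl⟩ := hodd
    rw [hcj, ← map_pow, hτ, pow_succ, pow_mul q 2, pow_mul, ← hF, FiniteField.pow_card_pow]
  have htr : ∀ y, τ (Algebra.trace F K y) = Algebra.trace F K (cj y) := fun y => by
    apply (algebraMap F K).injective
    rw [← hcjF, FiniteField.algebraMap_trace_eq_sum_pow, FiniteField.algebraMap_trace_eq_sum_pow,
      map_sum]
    simp only [map_pow]
  let H : Matrix (Fin n) (Fin n) F := Matrix.of fun i j => Algebra.trace F K (cj (b i) * b j)
  have hH : uAdj τ H = H := by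
    ext i j
    simp only [uAdj, transpose_apply, map_apply, H, of_apply, htr, map_mul, hcjcj]
    rw [mul_comm]
  have hlin : ∀ v : Fin n → F, ∀ i, (H *ᵥ v) i = Algebra.trace F K (cj (b i) * ∑ j, v j • b j) := by
    intro v i
    rw [Finset.mul_sum, map_sum]
    simp only [mul_smul_comm, map_smul, smul_eq_mul]
    simp [H, mulVec, dotProduct, mul_comm]
  have hdet : H.det ≠ 0 := fun h0 => by
    obtain ⟨v, hv, hHv⟩ := Matrix.exists_mulVec_eq_zero_iff.mpr h0
    set w := ∑ j, v j • b j with hw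
    have hall : ∀ y, Algebra.trace F K (cj y * w) = 0 := by
      intro y
      rw [← b.sum_repr y, map_sum, Finset.sum_mul, map_sum]
      refine Finset.sum_eq_zero fun i _ => ?_
      rw [Algebra.smul_def, map_mul cj, hcjF, mul_assoc, ← Algebra.smul_def, map_smul, ← hlin, hHv]
      simp
    have hw0 : w ≠ 0 := fun h => hv (by
      funext j
      exact Fintype.linearIndependent_iff.mp b.linearIndependent v h j)
    obtain ⟨y, hy⟩ := Algebra.trace_surjective F K 1
    have := hall (cj (y / w))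
    rw [hcjcj, div_mul_cancel₀ _ hw0, hy] at this
    exact one_ne_zero this
  -- the generator
  obtain ⟨y, hy⟩ := IsCyclic.exists_ofOrder_eq_natCard (α := Kˣ)
  rw [Nat.card_units, hcardK] at hy
  have hqn : 1 < q ^ n := Nat.one_lt_pow (by omega) hq1
  set z := y ^ (q ^ n - 1) with hz
  have hzord : orderOf z = q ^ n + 1 := by
    rw [hz, orderOf_pow' _ (by omega), hy,
      show q ^ (2 * n) - 1 = (q ^ n + 1) * (q ^ n - 1) by
        rw [mul_comm 2, pow_mul, ← Nat.sq_sub_sq, one_pow],
      Nat.gcd_mul_left_left, Nat.mul_div_cancel _ (by omega)]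
  have hzn : cj (z : K) * z = 1 := by
    rw [hcj, ← pow_succ, ← Units.val_pow_eq_pow_val, ← hzord, pow_orderOf_eq_one, Units.val_one]
  let X : Matrix (Fin n) (Fin n) F := Algebra.leftMulMatrix b (z : K)
  have hXb : ∀ j, ∑ k, X k j • b k = (z : K) * b j := fun j => by
    simp only [X, Algebra.leftMulMatrix_eq_repr_mul, b.sum_repr]
  have hX : uAdj τ X * H * X = H := by
    rw [mul_assoc]
    ext i l
    have h1 : ∀ k, (H * X) k l = Algebra.trace F K (cj (b k) * ((z : K) * b l)) := fun k => by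
      rw [← hXb l, Finset.mul_sum, map_sum]
      simp [Matrix.mul_apply, H, mul_comm]
    rw [Matrix.mul_apply]
    simp only [uAdj, transpose_apply, map_apply, h1]
    have h2 : ∀ k, τ (X k i) * Algebra.trace F K (cj (b k) * ((z : K) * b l)) =
        Algebra.trace F K (cj (X k i • b k) * ((z : K) * b l)) := fun k => by
      simp only [Algebra.smul_def, map_mul, hcjF, mul_assoc]
      rw [← Algebra.smul_def, map_smul, smul_eq_mul]
    simp only [h2, ← map_sum, ← Finset.sum_mul, hXb, H, of_apply]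
    rw [map_mul cj, mul_mul_mul_comm, hzn, one_mul]
  refine ⟨H, X, hH, hdet, hX, ?_⟩
  show orderOf (Algebra.leftMulMatrix b (z : K)) = _
  exact ((orderOf_injective (Algebra.leftMulMatrix b).toRingHom.toMonoidHom
    (Algebra.leftMulMatrix_injective b) (z : K)).trans orderOf_units).trans hzord

/-- A matrix of order `q ^ (2 n) - 1` preserving a hyperbolic hermitian form. -/
theorem exists_hyperbolic (p : ℕ) [Fact p.Prime] [CharP F p] (hτ : ∀ x, τ x = x ^ q) (hττ : ∀ x, τ (τ x) = x)
    (hF : Fintype.card F = q ^ 2) (hn : 1 ≤ n) :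
    ∃ H X : Matrix (Fin n ⊕ Fin n) (Fin n ⊕ Fin n) F, uAdj τ H = H ∧ H.det ≠ 0 ∧
      uAdj τ X * H * X = H ∧ orderOf X = q ^ (2 * n) - 1 := by
  classical
  haveI : NeZero n := ⟨by omega⟩
  let K := FiniteField.Extension F p n
  haveI : Finite K := Module.finite_of_finite F
  let b : Module.Basis (Fin n) F K :=
    Module.finBasisOfFinrankEq F K (FiniteField.finrank_extension F p n)
  obtain ⟨y, hy⟩ := IsCyclic.exists_ofOrder_eq_natCard (α := Kˣ)
  rw [Nat.card_units, FiniteField.natCard_extension, Nat.card_eq_fintype_card, hF, ← pow_mul] at hy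
  set X0 : Matrix (Fin n) (Fin n) F := Algebra.leftMulMatrix b (y : K) with hX0
  have hord : orderOf X0 = q ^ (2 * n) - 1 := by
    exact ((orderOf_injective (Algebra.leftMulMatrix b).toRingHom.toMonoidHom
      (Algebra.leftMulMatrix_injective b) (y : K)).trans orderOf_units).trans hy
  set Y : Matrix (Fin n) (Fin n) F := (uAdj τ X0)⁻¹ with hY
  have hu : IsUnit (uAdj τ X0).det := by
    rw [det_uAdj]
    refine RingHom.isUnit_map τ ?_
    rw [← Matrix.isUnit_iff_isUnit_det]
    exact y.isUnit.map (Algebra.leftMulMatrix b)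
  let X : Matrix (Fin n ⊕ Fin n) (Fin n ⊕ Fin n) F := fromBlocks X0 0 0 Y
  let H : Matrix (Fin n ⊕ Fin n) (Fin n ⊕ Fin n) F := fromBlocks 0 1 1 0
  have hub : ∀ A B C D : Matrix (Fin n) (Fin n) F, uAdj τ (fromBlocks A B C D) =
      fromBlocks (uAdj τ A) (uAdj τ C) (uAdj τ B) (uAdj τ D) := fun A B C D => by
    simp [uAdj, fromBlocks_map, fromBlocks_transpose]
  have hz0 : uAdj τ (0 : Matrix (Fin n) (Fin n) F) = 0 := by simp [uAdj]
  have hH : uAdj τ H = H := by simp only [H, hub, hz0, uAdj_one]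
  have hdet : H.det ≠ 0 := fun h0 => by
    have : H * H = 1 := by simp [H, fromBlocks_multiply, fromBlocks_one]
    have := congrArg det this
    rw [det_mul, h0, mul_zero, det_one] at this
    exact zero_ne_one this
  have hY1 : uAdj τ X0 * Y = 1 := mul_nonsing_inv _ hu
  have hY2 : uAdj τ Y * X0 = 1 := by
    have := congrArg (uAdj τ) hY1
    rwa [uAdj_mul, uAdj_uAdj τ hττ, uAdj_one] at this
  have hX : uAdj τ X * H * X = H := by
    simp only [X, H, hub, hz0, fromBlocks_multiply, Matrix.mul_zero, Matrix.zero_mul, add_zero,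
      zero_add, mul_one, hY1, hY2]
  refine ⟨H, X, hH, hdet, hX, ?_⟩
  have hiff : ∀ o, X ^ o = 1 ↔ X0 ^ o = 1 := by
    intro o
    rw [show X = fromBlocks X0 0 0 Y from rfl, fromBlocks_diagonal_pow, ← fromBlocks_one,
      fromBlocks_inj]
    refine ⟨fun h => h.1, fun h => ⟨h, rfl, rfl, ?_⟩⟩
    have hpow : uAdj τ (X0 ^ o) = uAdj τ X0 ^ o := by
      simp [uAdj, Matrix.map_pow, Matrix.transpose_pow]
    have h1 : (uAdj τ X0 * Y) ^ o = 1 := by rw [hY1, one_pow]
    rwa [(show Commute (uAdj τ X0) Y from hY1.trans (mul_eq_one_comm.1 hY1).symm).mul_pow, ← hpow, h,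
      uAdj_one, one_mul] at h1
  rw [← hord]
  exact orderOf_eq_orderOf_iff.2 hiff

/-- Gluing a semisimple block and a regular unipotent block gives an element of projective order
`p ^ T * N`. -/
theorem exists_order {d m T N : ℕ} {σ : F ≃+* F} (hσ : CfsgLib.AschbacherUnitary.IsConj q σ)
    (hF : Fintype.card F = q ^ 2) (hd : 2 ≤ d) {ι : Type*} [Fintype ι] [DecidableEq ι]
    (hι : Fintype.card ι + m = d) (hm : 1 ≤ m) (hmT : m ≤ p ^ T) (hTm : 1 ≤ T → p ^ (T - 1) < m)
    (hN : Nat.Coprime p N) {HA XA : Matrix ι ι F} (hHA : uAdj (σ : F →+* F) HA = HA)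
    (hHAdet : HA.det ≠ 0) (hXA : uAdj (σ : F →+* F) XA * HA * XA = HA) (hordA : orderOf XA = N) :
    ∃ g : ↥(Cfsg.GU d F q) ⧸ Subgroup.center ↥(Cfsg.GU d F q), orderOf g = p ^ T * N := by
  classical
  set τ : F →+* F := (σ : F →+* F) with hτdef
  have hττ : ∀ x, τ (τ x) = x := hσ.involutive
  have hne : τ ≠ RingHom.id F := fun e => hσ.ne_refl (RingEquiv.ext fun x => RingHom.congr_fun e x)
  obtain ⟨J, U, hJ, hJdet, -, hUJ, hUm, hUk⟩ :=
    exists_unipotent_matrix (F := F) (τ := τ) (m := m) hττ hne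
  haveI : Nonempty (Fin m) := ⟨⟨0, hm⟩⟩
  let H : Matrix (ι ⊕ Fin m) (ι ⊕ Fin m) F := fromBlocks HA 0 0 J
  let X : Matrix (ι ⊕ Fin m) (ι ⊕ Fin m) F := fromBlocks XA 0 0 U
  have hub : ∀ A D, uAdj τ (fromBlocks A 0 0 D : Matrix (ι ⊕ Fin m) (ι ⊕ Fin m) F) =
      fromBlocks (uAdj τ A) 0 0 (uAdj τ D) := fun A D => by
    simp [uAdj, fromBlocks_map, fromBlocks_transpose]
  have hH : uAdj τ H = H := by simp only [H, hub, hHA, hJ]
  have hdet : H.det ≠ 0 := by simpa [H] using mul_ne_zero hHAdet hJdet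
  have hX : uAdj τ X * H * X = H := by
    simp only [X, H, hub, fromBlocks_multiply, Matrix.mul_zero, Matrix.zero_mul, add_zero, zero_add,
      hXA, hUJ]
  obtain ⟨φ, -, hφ2, -⟩ := exists_transport (n := d) hne hττ
    (by rw [Fintype.card_sum, Fintype.card_fin]; exact hι) H hH hdet
  have hu : uAdj τ (φ X) * φ X = 1 := hφ2 X hX
  let A : GL (Fin d) F := ⟨φ X, uAdj τ (φ X), mul_eq_one_comm.1 hu, hu⟩
  have hA : A ∈ Cfsg.GU d F q := by
    rw [hσ.mem_GU_iff]
    show (φ X)ᵀ * (φ X).map σ = 1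
    have h1 := congrArg (fun M : Matrix (Fin d) (Fin d) F => M.map σ) hu
    beta_reduce at h1
    rw [Matrix.map_mul, Matrix.map_one _ (map_zero σ) (map_one σ)] at h1
    rw [show (uAdj τ (φ X)).map σ = (φ X)ᵀ from by
      ext i j; simp [uAdj, hτdef, hσ.involutive]] at h1
    exact h1
  let g : ↥(Cfsg.GU d F q) := ⟨A, hA⟩
  have hpowU : U ^ p ^ T = 1 := by
    have : (U - 1) ^ p ^ T = 0 := by
      rw [← Nat.sub_add_cancel hmT, pow_add, hUm, mul_zero]
    rwa [sub_pow_char_pow_of_commute (p := p) (h := Commute.one_right _), one_pow, sub_eq_zero] at this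
  refine ⟨QuotientGroup.mk g, Nat.dvd_antisymm ?_ ?_⟩
  · refine orderOf_dvd_of_pow_eq_one ?_
    rw [← QuotientGroup.mk_pow, show g ^ (p ^ T * N) = 1 from ?_, QuotientGroup.mk_one]
    apply Subtype.ext
    apply Units.ext
    show (φ X) ^ (p ^ T * N) = 1
    rw [← map_pow, show X ^ (p ^ T * N) = 1 from ?_, map_one]
    rw [show X = fromBlocks XA 0 0 U from rfl, fromBlocks_diagonal_pow, ← fromBlocks_one,
      mul_comm, pow_mul XA, ← hordA, pow_orderOf_eq_one, one_pow, mul_comm, pow_mul U, hpowU, one_pow]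
  · set o := orderOf (QuotientGroup.mk g : ↥(Cfsg.GU d F q) ⧸ Subgroup.center ↥(Cfsg.GU d F q))
    have h1 : g ^ o ∈ Subgroup.center ↥(Cfsg.GU d F q) := by
      rw [← QuotientGroup.eq_one_iff, QuotientGroup.mk_pow, pow_orderOf_eq_one]
    obtain ⟨x, -, hx⟩ := CfsgLib.RootClasses.exists_scalar_of_mem_center_GU hF hd h1
    have h2 : X ^ o = (x : F) • 1 := by
      apply φ.injective
      rw [map_pow, map_smul, map_one, Matrix.smul_one_eq_diagonal]
      exact (congrArg Units.val hx).symm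
    rw [show X = fromBlocks XA 0 0 U from rfl, fromBlocks_diagonal_pow, ← fromBlocks_one,
      fromBlocks_smul, fromBlocks_inj] at h2
    obtain ⟨hXo, -, -, hUo⟩ := h2
    have hx1 : (x : F) = 1 := by
      have h3 : IsNilpotent (U ^ o - 1) := by
        obtain ⟨c, hc⟩ := sub_one_dvd_pow_sub_one (Polynomial.X : F[X]) o
        refine ⟨m, ?_⟩
        have := congrArg (fun P => aeval U P) hc
        simp only [map_sub, map_pow, aeval_X, map_one, map_mul] at this
        rw [this, (show Commute (U - 1) (aeval U c) from ?_).mul_pow, hUm, zero_mul]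
        rw [show U - 1 = aeval U (Polynomial.X - 1 : F[X]) by simp]
        exact (Commute.all _ _).map (aeval U)
      rw [hUo, show (x : F) • (1 : Matrix (Fin m) (Fin m) F) - 1 = ((x : F) - 1) • 1 by
        rw [sub_smul, one_smul]] at h3
      obtain ⟨k, hk⟩ := h3
      rw [_root_.smul_pow, one_pow, smul_eq_zero] at hk
      rcases hk with hk | hk
      · exact sub_eq_zero.1 (pow_eq_zero_iff' .. |>.mp hk).1
      · exact absurd hk one_ne_zero
    rw [hx1, one_smul] at hXo hUo
    refine (Nat.Coprime.pow_left T hN).mul_dvd_of_dvd_of_dvd ?_ (hordA ▸ orderOf_dvd_of_pow_eq_one hXo)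
    obtain ⟨i, -, hi⟩ := (Nat.dvd_prime_pow (Fact.out : p.Prime)).1 (orderOf_dvd_of_pow_eq_one hpowU)
    refine dvd_trans ?_ (orderOf_dvd_of_pow_eq_one hUo)
    rw [hi]
    refine pow_dvd_pow _ ?_
    by_contra hlt
    refine hUk _ (hTm (by omega)) ?_
    rw [sub_pow_char_pow_of_commute (p := p) (h := Commute.one_right _), one_pow, sub_eq_zero]
    exact orderOf_dvd_iff_pow_eq_one.1 (hi ▸ pow_dvd_pow _ (by omega))

end CfsgLib.PGUOrders
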